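import Groth.Agent.Weitz.Sl2Rep
import Mathlib.Algebra.MvPolynomial.Derivation
import Mathlib.RingTheory.Derivation.Lie
import Mathlib.RingTheory.MvPolynomial.Homogeneous
import Mathlib.RingTheory.MvPolynomial.Basic
import Mathlib.RingTheory.Polynomial.Basic
import Mathlib.LinearAlgebra.Matrix.ToLin

/-!
# Linear derivations of a polynomial ring and finite generation of `sl₂`-invariants
-/

set_option autoImplicit false

universe u

open MvPolynomial

namespace Groth.Agent.Weitz

variable {k : Type u} [Field k] {σ : Type} [Fintype σ] [DecidableEq σ]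

/-- the linear derivation of a matrix -/
noncomputable def linDer (M : Matrix σ σ k) : Derivation k (MvPolynomial σ k) (MvPolynomial σ k) :=
  mkDerivation k (fun j => ∑ i, M i j • X i)

theorem linDer_X (M : Matrix σ σ k) (j : σ) : linDer M (X j) = ∑ i, M i j • X i := mkDerivation_X _ _ _

theorem linDer_lie (a b : Matrix σ σ k) :
    ⁅linDer a, linDer b⁆ = linDer (a * b - b * a) := by
  refine derivation_ext fun j => ?_
  simp only [Derivation.commutator_apply, linDer_X, map_sum, Derivation.map_smul, Finset.smul_sum,
    smul_smul, Matrix.sub_apply, Matrix.mul_apply, sub_smul, Finset.sum_smul, Finset.sum_sub_distrib]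
  congr 1 <;> rw [Finset.sum_comm] <;> simp only [mul_comm]

theorem linDer_smul (c : k) (a : Matrix σ σ k) : linDer (c • a) = c • linDer a := by
  refine derivation_ext fun j => ?_
  simp [linDer_X, Finset.smul_sum, smul_smul]

theorem linDer_neg (a : Matrix σ σ k) : linDer (-a) = -linDer a := by
  refine derivation_ext fun j => ?_
  simp [linDer_X]

/-- matrices satisfying the relations of `sl₂` -/
structure IsMatTriple (e h f : Matrix σ σ k) : Prop where
  he : h * e - e * h = (2 : k) • e
  hf : h * f - f * h = -((2 : k) • f)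
  ef : e * f - f * e = h

variable {e h f : Matrix σ σ k}

theorem IsMatTriple.isRep (t : IsMatTriple e h f) :
    IsRep (linDer e).toLinearMap (linDer h).toLinearMap (linDer f).toLinearMap := by
  refine ⟨?_, ?_, ?_⟩ <;> refine LinearMap.ext fun p => ?_
  · have := DFunLike.congr_fun (linDer_lie h e) p
    rw [t.he, linDer_smul] at this
    exact this
  · have := DFunLike.congr_fun (linDer_lie h f) p
    rw [t.hf, linDer_neg, linDer_smul] at this
    exact this
  · have := DFunLike.congr_fun (linDer_lie e f) p
    rw [t.ef] at this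
    exact this

theorem linDer_isHomogeneous (M : Matrix σ σ k) {d : ℕ} {p : MvPolynomial σ k} (hp : p.IsHomogeneous d) :
    (linDer M p).IsHomogeneous d := by
  classical
  suffices h : ∀ s : σ →₀ ℕ, s.degree = d → ∀ r : k, (linDer M (monomial s r)).IsHomogeneous d by
    rw [p.as_sum, map_sum]
    refine IsHomogeneous.sum _ _ _ fun s hs => h s ?_ _
    have := hp (mem_support_iff.1 hs)
    rwa [Finsupp.degree_eq_weight_one]
  intro s hs r
  rw [linDer, mkDerivation_monomial]
  refine (mem_homogeneousSubmodule _ _).1 (Submodule.smul_mem _ _ (Submodule.finsuppSum_mem _ _ _ _ fun i hi => ?_))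
  have hpos : 1 ≤ d := by
    have h1 : s i ≤ s.degree := Finsupp.le_degree i s
    omega
  have hdeg : (s - Finsupp.single i 1).degree = d - 1 := by
    have hle : Finsupp.single i 1 ≤ s := Finsupp.single_le_iff.2 (Nat.one_le_iff_ne_zero.2 hi)
    have := congrArg Finsupp.degree (tsub_add_cancel_of_le hle)
    simp only [map_add, Finsupp.degree_single, hs] at this
    omega
  rw [mem_homogeneousSubmodule, show d = (d - 1) + 1 by omega, smul_eq_mul]
  refine (isHomogeneous_monomial _ hdeg).mul (IsHomogeneous.sum _ _ _ fun l _ => ?_)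
  exact (mem_homogeneousSubmodule _ _).1 (Submodule.smul_mem _ _ ((mem_homogeneousSubmodule _ _).2 (isHomogeneous_X k l)))

instance finite_homogeneous (d : ℕ) : Module.Finite k (homogeneousSubmodule σ k d) := by
  have hle : homogeneousSubmodule σ k d ≤ restrictTotalDegree σ k d := fun p hp =>
    (mem_restrictTotalDegree σ d p).2 hp.totalDegree_le
  exact Submodule.finiteDimensional_of_le hle

/-- restriction of a linear derivation to a homogeneous piece -/
noncomputable def piece (M : Matrix σ σ k) (d : ℕ) : Module.End k (homogeneousSubmodule σ k d) :=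
  (linDer M).toLinearMap.restrict fun _ hp => (mem_homogeneousSubmodule _ _).2 (linDer_isHomogeneous M hp)

theorem IsMatTriple.isRep_piece (t : IsMatTriple e h f) (d : ℕ) : IsRep (piece e d) (piece h d) (piece f d) :=
  ⟨LinearMap.ext fun x => Subtype.ext (LinearMap.congr_fun t.isRep.he x.1),
    LinearMap.ext fun x => Subtype.ext (LinearMap.congr_fun t.isRep.hf x.1),
    LinearMap.ext fun x => Subtype.ext (LinearMap.congr_fun t.isRep.ef x.1)⟩

theorem linDer_homogeneousComponent (M : Matrix σ σ k) (p : MvPolynomial σ k) (d : ℕ) :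
    linDer M (homogeneousComponent d p) = homogeneousComponent d (linDer M p) := by
  conv_rhs => rw [← sum_homogeneousComponent p, map_sum, map_sum]
  have h : ∀ i, homogeneousComponent d (linDer M (homogeneousComponent i p)) =
      if d = i then linDer M (homogeneousComponent i p) else 0 := fun i =>
    homogeneousComponent_of_mem ((mem_homogeneousSubmodule _ _).2
      (linDer_isHomogeneous M (homogeneousComponent_isHomogeneous i p)))
  simp only [h, Finset.sum_ite_eq, Finset.mem_range]
  split_ifs with hd
  · rfl
  · rw [homogeneousComponent_eq_zero d p (by omega), map_zero]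

theorem homogeneousComponent_mul_right (c : MvPolynomial σ k) {s : MvPolynomial σ k} {e d : ℕ}
    (hs : s.IsHomogeneous e) :
    homogeneousComponent d (c * s) = if e ≤ d then homogeneousComponent (d - e) c * s else 0 := by
  conv_lhs => rw [← sum_homogeneousComponent c, Finset.sum_mul, map_sum]
  have h : ∀ i, homogeneousComponent d (homogeneousComponent i c * s) =
      if d = i + e then homogeneousComponent i c * s else 0 := fun i =>
    homogeneousComponent_of_mem ((mem_homogeneousSubmodule _ _).2 ((homogeneousComponent_isHomogeneous i c).mul hs))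
  simp only [h]
  split_ifs with hd
  · rw [Finset.sum_eq_single (d - e) (fun i _ hi => if_neg (by omega)) ?_, if_pos (by omega)]
    intro hn
    rw [if_pos (by omega), homogeneousComponent_eq_zero _ c (by simp at hn; omega), zero_mul]
  · exact Finset.sum_eq_zero fun i _ => if_neg (by omega)

variable [IsAlgClosed k] [CharZero k]

/-- the invariants of a linear `sl₂`-action on a polynomial ring are finitely generated -/
theorem IsMatTriple.exists_fg (t : IsMatTriple e h f) :
    ∃ S : Subalgebra k (MvPolynomial σ k), S.FG ∧
      ∀ p, p ∈ S ↔ linDer e p = 0 ∧ linDer f p = 0 := by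
  classical
  let G : Set (MvPolynomial σ k) := {p | ∃ d, 0 < d ∧ p.IsHomogeneous d ∧ linDer e p = 0 ∧ linDer f p = 0}
  obtain ⟨s, hsG, hspan⟩ := (Submodule.fg_span_iff_fg_span_finset_subset G).1
    (IsNoetherian.noetherian (Ideal.span G))
  refine ⟨Algebra.adjoin k (s : Set (MvPolynomial σ k)), Subalgebra.fg_adjoin_finset s, fun p => ⟨fun hp => ?_, ?_⟩⟩
  · induction hp using Algebra.adjoin_induction with
    | mem x hx => obtain ⟨-, -, -, h1, h2⟩ := hsG hx; exact ⟨h1, h2⟩
    | algebraMap r => exact ⟨Derivation.map_algebraMap _ r, Derivation.map_algebraMap _ r⟩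
    | add x y _ _ hx hy => simp [hx.1, hx.2, hy.1, hy.2]
    | mul x y _ _ hx hy => simp [Derivation.leibniz, hx.1, hx.2, hy.1, hy.2]
  rintro ⟨hpe, hpf⟩
  suffices key : ∀ d, ∀ q : MvPolynomial σ k, q.IsHomogeneous d → linDer e q = 0 → linDer f q = 0 →
      q ∈ Algebra.adjoin k (s : Set (MvPolynomial σ k)) by
    rw [← sum_homogeneousComponent p]
    refine Subalgebra.sum_mem _ fun i _ => key i _ (homogeneousComponent_isHomogeneous i p) ?_ ?_
    · rw [linDer_homogeneousComponent, hpe, map_zero]
    · rw [linDer_homogeneousComponent, hpf, map_zero]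
  intro d
  induction d using Nat.strong_induction_on with
  | _ d ih =>
    intro q hq hqe hqf
    by_cases hd : d = 0
    · subst hd
      have : q = C (coeff 0 q) := by rw [← homogeneousComponent_zero, homogeneousComponent_eq_self hq]
      rw [this]
      exact Subalgebra.algebraMap_mem _ _
    have hqG : q ∈ Submodule.span (MvPolynomial σ k) (s : Set (MvPolynomial σ k)) :=
      hspan ▸ Submodule.subset_span ⟨d, Nat.pos_of_ne_zero hd, hq, hqe, hqf⟩
    obtain ⟨c, -, hc⟩ := Submodule.mem_span_finset.1 hqG
    have hdec : ∀ x ∈ s, ∃ z a b : MvPolynomial σ k, z ∈ Algebra.adjoin k (s : Set (MvPolynomial σ k)) ∧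
        a.IsHomogeneous d ∧ b.IsHomogeneous d ∧
        homogeneousComponent d (c x * x) = z + linDer e a + linDer f b := by
      intro x hx
      obtain ⟨dx, hdx, hxh, hxe, hxf⟩ := hsG hx
      rw [homogeneousComponent_mul_right (c x) hxh]
      split_ifs with hle
      · obtain ⟨v₀, a, b, h1, h2, h3⟩ := (t.isRep_piece (d - dx)).exists_decomp
          ⟨homogeneousComponent (d - dx) (c x),
            (mem_homogeneousSubmodule _ _).2 (homogeneousComponent_isHomogeneous _ _)⟩
        have h3' : homogeneousComponent (d - dx) (c x) = v₀.1 + linDer e a.1 + linDer f b.1 := congrArg Subtype.val h3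
        have hmul : ∀ z : homogeneousSubmodule σ k (d - dx), (z.1 * x).IsHomogeneous d := fun z => by
          have := ((mem_homogeneousSubmodule _ _).1 z.2).mul hxh
          rwa [Nat.sub_add_cancel hle] at this
        refine ⟨v₀.1 * x, a.1 * x, b.1 * x, Subalgebra.mul_mem _ ?_ (Algebra.subset_adjoin hx), hmul a, hmul b, ?_⟩
        · exact ih (d - dx) (by omega) v₀.1 v₀.2 (congrArg Subtype.val h1) (congrArg Subtype.val h2)
        · rw [h3', Derivation.leibniz, Derivation.leibniz, hxe, hxf, smul_zero, smul_zero, zero_add, zero_add,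
            smul_eq_mul, smul_eq_mul]
          ring
      · exact ⟨0, 0, 0, Subalgebra.zero_mem _, isHomogeneous_zero _ _ _, isHomogeneous_zero _ _ _, by simp⟩
    choose! z a b hz ha hb habc using hdec
    have hq' : q = (∑ x ∈ s, z x) + linDer e (∑ x ∈ s, a x) + linDer f (∑ x ∈ s, b x) := by
      rw [map_sum, map_sum, ← Finset.sum_add_distrib, ← Finset.sum_add_distrib, ← Finset.sum_congr rfl habc,
        ← map_sum]
      simp only [← smul_eq_mul, hc]
      exact (homogeneousComponent_eq_self hq).symm
    have hzfix : ∀ y ∈ Algebra.adjoin k (s : Set (MvPolynomial σ k)), linDer e y = 0 ∧ linDer f y = 0 := by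
      intro y hy
      induction hy using Algebra.adjoin_induction with
      | mem x hx => obtain ⟨-, -, -, h1, h2⟩ := hsG hx; exact ⟨h1, h2⟩
      | algebraMap r => exact ⟨Derivation.map_algebraMap _ r, Derivation.map_algebraMap _ r⟩
      | add x y _ _ hx hy => simp [hx.1, hx.2, hy.1, hy.2]
      | mul x y _ _ hx hy => simp [Derivation.leibniz, hx.1, hx.2, hy.1, hy.2]
    have hZ := Subalgebra.sum_mem (Algebra.adjoin k (s : Set (MvPolynomial σ k))) hz
    obtain ⟨hZe, hZf⟩ := hzfix _ hZ
    suffices h0 : linDer e (∑ x ∈ s, a x) + linDer f (∑ x ∈ s, b x) = 0 by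
      rw [_root_.add_assoc, h0, add_zero] at hq'
      rwa [hq']
    set Z := ∑ x ∈ s, z x
    set Aa := ∑ x ∈ s, a x
    set Bb := ∑ x ∈ s, b x
    let A' : homogeneousSubmodule σ k d := ⟨Aa, Submodule.sum_mem _ fun x hx => ha x hx⟩
    let B' : homogeneousSubmodule σ k d := ⟨Bb, Submodule.sum_mem _ fun x hx => hb x hx⟩
    have hdiff : linDer e Aa + linDer f Bb = q - Z := by rw [hq']; ring
    have hH : ∀ y, linDer e y = 0 → linDer f y = 0 → linDer h y = 0 := fun y h1 h2 => by
      have := t.isRep.ef' y
      simpa [h1, h2] using this.symm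
    have hzero := (t.isRep_piece d).eq_zero_of_fixed (v := piece e d A' + piece f d B') (a := A') (b := B')
      (Subtype.ext (by
        change linDer e (linDer e Aa + linDer f Bb) = 0
        rw [hdiff, map_sub, hqe, hZe, sub_zero]))
      (Subtype.ext (by
        change linDer h (linDer e Aa + linDer f Bb) = 0
        rw [hdiff, map_sub, hH q hqe hqf, hH Z hZe hZf, sub_zero]))
      rfl
    exact congrArg Subtype.val hzero

end Groth.Agent.Weitz
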