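import Groth.Agent.Weitz.Triple
import Groth.Agent.Weitz.Deriv
import Mathlib.Data.Matrix.Block
import Mathlib.Algebra.MvPolynomial.Rename

/-!
# Weitzenböck's theorem: the kernel of a nilpotent linear derivation is finitely generated

The kernel of `δ = linDer M` on `k[X]` is the image of the invariants of `sl₂` acting on
`k[X, x, y]` (extending `δ` by a triple on the variables and by the standard representation on
`x, y`) under `x ↦ 0, y ↦ 1`.
-/

set_option autoImplicit false

universe u

open MvPolynomial

namespace Groth.Agent.Weitz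

variable {k : Type u} [Field k] {n : ℕ}

/-- extension of a matrix by a block on two more variables -/
noncomputable def ext2 (A : Matrix (Fin n) (Fin n) k) (B : Matrix (Fin 2) (Fin 2) k) :
    Matrix (Fin n ⊕ Fin 2) (Fin n ⊕ Fin 2) k :=
  Matrix.fromBlocks A 0 0 B

theorem linDer_ext2_inl (A : Matrix (Fin n) (Fin n) k) (B : Matrix (Fin 2) (Fin 2) k) (a : MvPolynomial (Fin n) k) :
    linDer (ext2 A B) (rename Sum.inl a) = rename Sum.inl (linDer A a) := by
  induction a using MvPolynomial.induction_on with
  | C r => simp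
  | add p q hp hq => simp [hp, hq]
  | mul_X p i hp =>
    rw [map_mul, rename_X, Derivation.leibniz, Derivation.leibniz, hp, map_add, smul_eq_mul, smul_eq_mul,
      smul_eq_mul, smul_eq_mul, map_mul, map_mul, rename_X, linDer_X, linDer_X, map_sum, Fintype.sum_sum_type]
    simp [ext2, Algebra.smul_def]

theorem linDer_ext2_inr (A : Matrix (Fin n) (Fin n) k) (B : Matrix (Fin 2) (Fin 2) k) (j : Fin 2) :
    linDer (ext2 A B) (X (Sum.inr j)) = B 0 j • X (Sum.inr 0) + B 1 j • X (Sum.inr 1) := by
  rw [linDer_X, Fintype.sum_sum_type]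
  simp [ext2, Fin.sum_univ_two]

/-- the specialisation `x ↦ 0, y ↦ 1` -/
noncomputable def spec2 : MvPolynomial (Fin n ⊕ Fin 2) k →ₐ[k] MvPolynomial (Fin n) k :=
  aeval (Sum.elim X ![0, 1])

theorem linDer_spec2 (A : Matrix (Fin n) (Fin n) k) (p : MvPolynomial (Fin n ⊕ Fin 2) k) :
    linDer A (spec2 p) = spec2 (linDer (ext2 A !![0, 1; 0, 0]) p) := by
  induction p using MvPolynomial.induction_on with
  | C r => simp [spec2]
  | add p q hp hq => simp [hp, hq]
  | mul_X p i hp =>
    rw [map_mul, Derivation.leibniz, Derivation.leibniz, map_add, smul_eq_mul, smul_eq_mul, smul_eq_mul,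
      smul_eq_mul, map_mul, map_mul, hp]
    congr 1
    rcases i with i | i
    · have : linDer (ext2 A !![(0 : k), 1; 0, 0]) (X (Sum.inl i)) = rename Sum.inl (linDer A (X i)) := by
        rw [← linDer_ext2_inl A !![(0 : k), 1; 0, 0], rename_X]
      rw [this]
      simp only [spec2, aeval_X, Sum.elim_inl, aeval_rename, Sum.elim_comp_inl, aeval_X_left, AlgHom.id_apply]
    · rw [linDer_ext2_inr]
      fin_cases i <;> simp [spec2]

theorem iSup_eigenspace_linDer (A : Matrix (Fin n) (Fin n) k)
    (hA : ⨆ μ, Module.End.eigenspace (Matrix.toLin' A) μ = ⊤) :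
    ⨆ μ, Module.End.eigenspace (linDer A).toLinearMap μ = ⊤ := by
  set T := ⨆ μ, Module.End.eigenspace (linDer A).toLinearMap μ with hT
  have hmem : ∀ (μ : k) (p : MvPolynomial (Fin n) k), linDer A p = μ • p → p ∈ T := fun μ p h =>
    Submodule.mem_iSup_of_mem μ (Module.End.mem_eigenspace_iff.2 h)
  let L : (Fin n → k) →ₗ[k] MvPolynomial (Fin n) k := Fintype.linearCombination k X
  have hL : ∀ v, linDer A (L v) = L (Matrix.toLin' A v) := by
    intro v
    simp only [L, Fintype.linearCombination_apply, map_sum, Derivation.map_smul, linDer_X, Finset.smul_sum,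
      Matrix.toLin'_apply, Matrix.mulVec, dotProduct, Finset.sum_smul, smul_smul]
    rw [Finset.sum_comm]
    simp only [mul_comm]
  have hlin : ∀ i, X i ∈ T := by
    intro i
    have hi : L (Pi.single i 1) = X i := by simp [L]
    rw [← hi]
    suffices h : ∀ v ∈ ⨆ μ, Module.End.eigenspace (Matrix.toLin' A) μ, L v ∈ T from
      h _ (hA ▸ Submodule.mem_top)
    intro v hv
    induction hv using Submodule.iSup_induction' with
    | mem μ v hv => exact hmem μ _ (by rw [hL, Module.End.mem_eigenspace_iff.1 hv, map_smul])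
    | zero => rw [map_zero]; exact zero_mem _
    | add v w _ _ hv hw => rw [map_add]; exact add_mem hv hw
  rw [eq_top_iff]
  intro p hp
  clear hp
  induction p using MvPolynomial.induction_on with
  | C r => exact hmem 0 _ (by simp)
  | add p q hp hq => exact add_mem hp hq
  | mul_X p i hp =>
    have hmul : ∀ x ∈ T, ∀ y ∈ T, x * y ∈ T := by
      intro x hx y hy
      rw [hT] at hx
      induction hx using Submodule.iSup_induction' with
      | mem μ x hx =>
        rw [hT] at hy
        induction hy using Submodule.iSup_induction' with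
        | mem ν y hy =>
          refine hmem (ν + μ) _ ?_
          have h1 : linDer A x = μ • x := Module.End.mem_eigenspace_iff.1 hx
          have h2 : linDer A y = ν • y := Module.End.mem_eigenspace_iff.1 hy
          rw [Derivation.leibniz, h1, h2, smul_eq_mul, smul_eq_mul, Algebra.smul_def, Algebra.smul_def,
            Algebra.smul_def, map_add]
          ring
        | zero => rw [mul_zero]; exact zero_mem _
        | add y z _ _ hy hz => rw [mul_add]; exact add_mem hy hz
      | zero => rw [zero_mul]; exact zero_mem _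
      | add x z _ _ hx hz => rw [add_mul]; exact add_mem hx hz
    exact hmul p hp _ (hlin i)

/-- the coefficient `(-1)^j / j!` -/
noncomputable def cf (k : Type u) [Field k] (j : ℕ) : k := (-1) ^ j / (j.factorial : k)

theorem cf_zero : cf k 0 = 1 := by simp [cf]

theorem cf_succ [CharZero k] (j : ℕ) : ((j : k) + 1) * cf k (j + 1) = -cf k j := by
  have h1 : ((j : k) + 1) ≠ 0 := Nat.cast_add_one_ne_zero j
  have h2 : (j.factorial : k) ≠ 0 := Nat.cast_ne_zero.2 j.factorial_ne_zero
  rw [cf, cf, Nat.factorial_succ]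
  push_cast
  field_simp
  ring

variable [IsAlgClosed k] [CharZero k]

theorem mem_map_invariants {M Hm Fm : Matrix (Fin n) (Fin n) k} (t : IsMatTriple M Hm Fm)
    {S : Subalgebra k (MvPolynomial (Fin n ⊕ Fin 2) k)}
    (hS : ∀ p, linDer (ext2 M !![0, 1; 0, 0]) p = 0 → linDer (ext2 Fm !![0, 0; 1, 0]) p = 0 → p ∈ S)
    {d : ℕ} {a : MvPolynomial (Fin n) k} (hd : a.IsHomogeneous d) {μ : k} (hE : linDer M a = 0)
    (hH : linDer Hm a = μ • a) : a ∈ S.map spec2 := by
  by_cases ha : a = 0
  · rw [ha]; exact Subalgebra.zero_mem _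
  let w : homogeneousSubmodule (Fin n) k d := ⟨a, (mem_homogeneousSubmodule _ _).2 hd⟩
  obtain ⟨m, rfl, hFm⟩ := (t.isRep_piece d).exists_nat (w := w) (μ := μ)
    (fun h0 => ha (congrArg Subtype.val h0)) (Subtype.ext hE) (Subtype.ext hH)
  let G : ℕ → MvPolynomial (Fin n) k := fun j => ((linDer Fm).toLinearMap ^ j) a
  have hG : ∀ j, G j = ((piece Fm d ^ j) w).1 := by
    intro j
    induction j with
    | zero => rfl
    | succ j ih =>
      simp only [G, pow_succ', Module.End.mul_apply] at ih ⊢
      rw [ih]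
      rfl
  have hGz : G (m + 1) = 0 := by rw [hG, hFm]; rfl
  have hGs : ∀ j, linDer Fm (G j) = G (j + 1) := fun j => by simp [G, pow_succ', Module.End.mul_apply]
  have hEG : ∀ j, linDer M (G (j + 1)) = (((j : k) + 1) * ((m : k) - j)) • G j := fun j =>
    t.isRep.e_pow_f (w := a) (μ := (m : k)) hE hH j
  have hEG0 : linDer M (G 0) = 0 := hE
  let x : MvPolynomial (Fin n ⊕ Fin 2) k := X (Sum.inr 0)
  let y : MvPolynomial (Fin n ⊕ Fin 2) k := X (Sum.inr 1)
  let term : ℕ → MvPolynomial (Fin n ⊕ Fin 2) k := fun j => rename Sum.inl (G j) * x ^ j * y ^ (m - j)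
  let P := ∑ j ∈ Finset.range (m + 1), cf k j • term j
  set E₂ := linDer (ext2 M !![(0 : k), 1; 0, 0]) with hE₂
  set F₂ := linDer (ext2 Fm !![(0 : k), 0; 1, 0]) with hF₂
  have hEx : E₂ x = 0 := by rw [hE₂, linDer_ext2_inr]; simp
  have hEy : E₂ y = x := by rw [hE₂, linDer_ext2_inr]; simp [x]
  have hFx : F₂ x = y := by rw [hF₂, linDer_ext2_inr]; simp [y]
  have hFy : F₂ y = 0 := by rw [hF₂, linDer_ext2_inr]; simp
  have hEg : ∀ j, E₂ (rename Sum.inl (G j)) = rename Sum.inl (linDer M (G j)) := fun j => linDer_ext2_inl _ _ _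
  have hFg : ∀ j, F₂ (rename Sum.inl (G j)) = rename Sum.inl (G (j + 1)) := fun j => by
    rw [hF₂, linDer_ext2_inl, hGs]
  -- weights of the telescoping sums
  let u : ℕ → MvPolynomial (Fin n ⊕ Fin 2) k := fun j =>
    (((m : k) - j) * cf k j) • (rename Sum.inl (G j) * x ^ (j + 1) * y ^ (m - j - 1))
  have hPE : E₂ P = 0 := by
    have step : ∀ j ∈ Finset.range (m + 1), E₂ (cf k j • term j) =
        (match j with | 0 => 0 | i + 1 => -u i) + u j := by
      intro j hj
      rw [Derivation.map_smul]
      simp only [term, Derivation.leibniz, Derivation.leibniz_pow, hEx, hEy, smul_eq_mul, mul_zero, smul_zero,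
        zero_add, hEg]
      rcases j with _ | i
      · simp only [hEG0, map_zero, mul_zero, add_zero, nsmul_eq_mul]
        simp only [u, cf_zero, one_smul, pow_zero, Nat.sub_zero, mul_one, Nat.cast_zero, sub_zero, zero_add,
          pow_one, Algebra.smul_def, map_natCast, map_one, one_mul]
        ring
      · have hi : i + 1 ≤ m := by rw [Finset.mem_range] at hj; omega
        rw [hEG, map_smul]
        simp only [nsmul_eq_mul]
        simp only [u, Algebra.smul_def, show m - (i + 1) = m - i - 1 by omega]
        have hc : (algebraMap k (MvPolynomial (Fin n ⊕ Fin 2) k)) (cf k (i + 1)) *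
            (algebraMap k _ (((i : k) + 1) * ((m : k) - i))) =
              -(algebraMap k _ (((m : k) - i) * cf k i)) := by
          rw [← map_mul, ← map_neg]
          refine congrArg _ ?_
          linear_combination ((m : k) - i) * cf_succ (k := k) i
        have hn : ((m - i - 1 : ℕ) : MvPolynomial (Fin n ⊕ Fin 2) k) = algebraMap k _ ((m : k) - (i + 1 : ℕ)) := by
          rw [← map_natCast (algebraMap k (MvPolynomial (Fin n ⊕ Fin 2) k)), show m - i - 1 = m - (i + 1) by omega,
            Nat.cast_sub hi]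
        simp only [map_mul] at hc ⊢
        rw [hn]
        linear_combination (rename Sum.inl (G i) * x ^ (i + 1) * y ^ (m - i - 1)) * hc
    simp only [P, map_sum, Finset.sum_congr rfl step]
    rw [Finset.sum_add_distrib, Finset.sum_range_succ', Finset.sum_range_succ u m]
    simp [u]
  let v : ℕ → MvPolynomial (Fin n ⊕ Fin 2) k := fun j =>
    cf k j • (rename Sum.inl (G (j + 1)) * x ^ j * y ^ (m - j))
  have hPF : F₂ P = 0 := by
    have step : ∀ j ∈ Finset.range (m + 1), F₂ (cf k j • term j) =
        (match j with | 0 => 0 | i + 1 => -v i) + v j := by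
      intro j hj
      rw [Derivation.map_smul]
      simp only [term, Derivation.leibniz, Derivation.leibniz_pow, hFx, hFy, smul_eq_mul, mul_zero, smul_zero,
        zero_add, hFg]
      rcases j with _ | i
      · simp only [v, cf_zero, one_smul, pow_zero, Nat.sub_zero, mul_one, zero_nsmul, mul_zero, zero_mul,
          zero_add, add_zero]
        ring
      · have hi : i + 1 ≤ m := by rw [Finset.mem_range] at hj; omega
        have hc : (algebraMap k (MvPolynomial (Fin n ⊕ Fin 2) k)) (cf k (i + 1)) * ((i + 1 : ℕ) : MvPolynomial (Fin n ⊕ Fin 2) k) =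
              -(algebraMap k _ (cf k i)) := by
          rw [← map_natCast (algebraMap k (MvPolynomial (Fin n ⊕ Fin 2) k)), ← map_mul, ← map_neg]
          refine congrArg _ ?_
          push_cast
          linear_combination cf_succ (k := k) i
        simp only [nsmul_eq_mul]
        simp only [v, Algebra.smul_def, show m - i = m - (i + 1) + 1 by omega, pow_succ,
          Nat.add_sub_cancel]
        linear_combination (rename Sum.inl (G (i + 1)) * x ^ i * y ^ (m - (i + 1)) * y) * hc
    simp only [P, map_sum, Finset.sum_congr rfl step]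
    rw [Finset.sum_add_distrib, Finset.sum_range_succ', Finset.sum_range_succ v m]
    simp [v, hGz]
  refine ⟨P, hS P hPE hPF, ?_⟩
  simp only [P]
  change spec2 (∑ j ∈ Finset.range (m + 1), cf k j • term j) = a
  rw [map_sum, Finset.sum_eq_single 0]
  · simp [term, cf_zero, spec2, x, y, G, aeval_rename, aeval_X_left]
  · intro j _ hj
    simp [term, spec2, x, hj]
  · intro h; simp at h

theorem exists_fg_ker (M : Matrix (Fin n) (Fin n) k) (hM : IsNilpotent M) :
    ∃ S : Subalgebra k (MvPolynomial (Fin n) k), S.FG ∧ ∀ f, f ∈ S ↔ linDer M f = 0 := by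
  classical
  obtain ⟨H, F, tr, heig⟩ := exists_triple _ (Fin n → k) rfl (Matrix.toLinAlgEquiv' M) (hM.map Matrix.toLinAlgEquiv')
  set Hm := (Matrix.toLinAlgEquiv' (R := k) (n := Fin n)).symm H with hHm
  set Fm := (Matrix.toLinAlgEquiv' (R := k) (n := Fin n)).symm F with hFm
  have t : IsMatTriple M Hm Fm := by
    have key : ∀ A B C : Module.End k (Fin n → k), A * B - B * A = C →
        (Matrix.toLinAlgEquiv' (R := k) (n := Fin n)).symm A * Matrix.toLinAlgEquiv'.symm B -
          Matrix.toLinAlgEquiv'.symm B * Matrix.toLinAlgEquiv'.symm A = Matrix.toLinAlgEquiv'.symm C := by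
      intro A B C hC
      rw [← map_mul, ← map_mul, ← map_sub, hC]
    refine ⟨?_, ?_, ?_⟩
    · have := key _ _ _ tr.he
      rwa [AlgEquiv.symm_apply_apply, map_smul, AlgEquiv.symm_apply_apply] at this
    · have := key _ _ _ tr.hf
      rwa [map_neg, map_smul] at this
    · have := key _ _ _ tr.ef
      rwa [AlgEquiv.symm_apply_apply] at this
  have t₂ : IsMatTriple (ext2 M !![(0 : k), 1; 0, 0]) (ext2 Hm !![1, 0; 0, -1]) (ext2 Fm !![0, 0; 1, 0]) := by
    refine ⟨?_, ?_, ?_⟩ <;>
      simp only [ext2, Matrix.fromBlocks_multiply, sub_eq_add_neg, Matrix.fromBlocks_add, Matrix.fromBlocks_smul,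
        Matrix.fromBlocks_neg, Matrix.mul_zero, Matrix.zero_mul, add_zero, zero_add, smul_zero,
        neg_zero, Matrix.fromBlocks_inj, true_and, and_true] <;>
      simp only [← sub_eq_add_neg, t.he, t.hf, t.ef, true_and] <;>
      (ext i j; fin_cases i <;> fin_cases j <;> simp <;> norm_num)
  obtain ⟨S₂, hfg, hS₂⟩ := t₂.exists_fg
  refine ⟨S₂.map spec2, hfg.map _, fun f => ⟨?_, fun hf => ?_⟩⟩
  · rintro ⟨p, hp, rfl⟩
    change linDer M (spec2 p) = 0
    rw [linDer_spec2, ((hS₂ p).1 hp).1, map_zero]
  have hHm' : Matrix.toLin' Hm = H := (Matrix.toLinAlgEquiv' (R := k) (n := Fin n)).apply_symm_apply H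
  have htop := iSup_eigenspace_linDer Hm (by rw [hHm']; exact heig)
  rw [← sum_homogeneousComponent f]
  refine Subalgebra.sum_mem _ fun d _ => ?_
  have hfd : linDer M (homogeneousComponent d f) = 0 := by rw [linDer_homogeneousComponent, hf, map_zero]
  set a := homogeneousComponent d f
  have hamem : a ∈ ⨆ μ, Module.End.eigenspace (linDer Hm).toLinearMap μ := htop ▸ Submodule.mem_top
  obtain ⟨c, hc, hsum⟩ := (Submodule.mem_iSup_iff_exists_finsupp _ _).1 hamem
  have hev : ∀ μ, linDer Hm (c μ) = μ • c μ := fun μ => Module.End.mem_eigenspace_iff.1 (hc μ)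
  have hEc : ∀ μ, linDer M (c μ) = 0 := by
    intro μ
    have hmem : ∀ ν, linDer M (c ν) ∈ Module.End.eigenspace (linDer Hm).toLinearMap (ν + 2) := fun ν => by
      rw [Module.End.mem_eigenspace_iff]
      have := t.isRep.he' (c ν)
      simp only [Derivation.coeFn_coe] at this ⊢
      rw [this, hev, Derivation.map_smul, add_smul]
    have hind := (Module.End.eigenspaces_iSupIndep (linDer Hm).toLinearMap).comp (add_left_injective (2 : k))
    have hz : ∑ ν ∈ c.support, linDer M (c ν) = 0 := by
      rw [← map_sum]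
      rw [Finsupp.sum] at hsum
      rw [hsum, hfd]
    by_cases hμ : μ ∈ c.support
    · exact ((iSupIndep_iff_finset_sum_eq_zero_imp_eq_zero _).1 hind) c.support (fun ν => linDer M (c ν))
        (fun ν _ => hmem ν) hz μ hμ
    · rw [Finsupp.notMem_support_iff.1 hμ, map_zero]
  have haa : a = homogeneousComponent d a :=
    (homogeneousComponent_eq_self (homogeneousComponent_isHomogeneous d f)).symm
  rw [haa, ← hsum, Finsupp.sum, map_sum]
  refine Subalgebra.sum_mem _ fun μ _ => ?_
  refine mem_map_invariants t (fun p h1 h2 => (hS₂ p).2 ⟨h1, h2⟩) (homogeneousComponent_isHomogeneous d (c μ))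
    (μ := μ) ?_ ?_
  · rw [linDer_homogeneousComponent, hEc, map_zero]
  · rw [linDer_homogeneousComponent, hev, map_smul]

end Groth.Agent.Weitz
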