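import Mathlib.LinearAlgebra.Eigenspace.Minpoly
import Mathlib.LinearAlgebra.Eigenspace.Triangularizable
import Mathlib.LinearAlgebra.Dual.Lemmas
import Mathlib.Algebra.Lie.OfAssociative
import Mathlib.Algebra.Lie.Nilpotent
import Mathlib.Algebra.Lie.AdjointAction.Basic
import Mathlib.Algebra.Lie.OfAssociative
import Mathlib.FieldTheory.IsAlgClosed.Basic

/-!
# Finite-dimensional representations of `sl₂` in characteristic zero
-/

set_option autoImplicit false

universe u v

namespace Groth.Agent.Weitz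

variable {k : Type u} [Field k] {V : Type v} [AddCommGroup V] [Module k V]

/-- operators satisfying the relations of `sl₂` -/
structure IsRep (E H F : Module.End k V) : Prop where
  he : H * E - E * H = (2 : k) • E
  hf : H * F - F * H = -((2 : k) • F)
  ef : E * F - F * E = H

namespace IsRep

variable {E H F : Module.End k V}

theorem symm (t : IsRep E H F) : IsRep F (-H) E where
  he := by rw [neg_mul, mul_neg, sub_neg_eq_add, neg_add_eq_sub, ← neg_sub, t.hf, neg_neg]
  hf := by rw [neg_mul, mul_neg, sub_neg_eq_add, neg_add_eq_sub, ← neg_sub, t.he]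
  ef := by rw [← neg_sub, t.ef]

theorem he' (t : IsRep E H F) (v : V) : H (E v) = E (H v) + (2 : k) • E v := by
  have := LinearMap.congr_fun t.he v
  rw [LinearMap.sub_apply, LinearMap.smul_apply, Module.End.mul_apply, Module.End.mul_apply, sub_eq_iff_eq_add'] at this
  exact this

theorem hf' (t : IsRep E H F) (v : V) : H (F v) = F (H v) - (2 : k) • F v := by
  have := LinearMap.congr_fun t.hf v
  rw [LinearMap.sub_apply, LinearMap.neg_apply, LinearMap.smul_apply, Module.End.mul_apply, Module.End.mul_apply,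
    sub_eq_iff_eq_add'] at this
  rw [this, sub_eq_add_neg]

theorem ef' (t : IsRep E H F) (v : V) : E (F v) = F (E v) + H v := by
  have := LinearMap.congr_fun t.ef v
  rw [LinearMap.sub_apply, Module.End.mul_apply, Module.End.mul_apply, sub_eq_iff_eq_add'] at this
  exact this

theorem h_pow_f (t : IsRep E H F) {w : V} {μ : k} (hH : H w = μ • w) (n : ℕ) :
    H ((F ^ n) w) = (μ - 2 * n) • (F ^ n) w := by
  induction n with
  | zero => simp [hH]
  | succ n ih =>
    rw [pow_succ', Module.End.mul_apply, t.hf', ih, map_smul, ← sub_smul]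
    congr 1
    push_cast; ring

theorem e_pow_f (t : IsRep E H F) {w : V} {μ : k} (hE : E w = 0) (hH : H w = μ • w) (n : ℕ) :
    E ((F ^ (n + 1)) w) = (((n : k) + 1) * (μ - n)) • (F ^ n) w := by
  induction n with
  | zero => simp [t.ef', hE, hH]
  | succ n ih =>
    rw [pow_succ', Module.End.mul_apply, t.ef', ih, map_smul, t.h_pow_f hH, ← Module.End.mul_apply, ← pow_succ',
      ← add_smul]
    congr 1
    push_cast; ring

theorem exists_nat [FiniteDimensional k V] [CharZero k] (t : IsRep E H F) {w : V} {μ : k} (hw : w ≠ 0)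
    (hE : E w = 0) (hH : H w = μ • w) : ∃ m : ℕ, μ = m ∧ (F ^ (m + 1)) w = 0 := by
  classical
  have hex : ∃ n, (F ^ n) w = 0 := by
    by_contra! hne
    have hinj : Function.Injective (fun n : ℕ => μ - 2 * (n : k)) := fun a b hab => by
      have h1 : (2 : k) * (a : k) = 2 * (b : k) := sub_right_injective hab
      exact Nat.cast_injective (mul_left_cancel₀ two_ne_zero h1)
    have hsub : Set.range (fun n : ℕ => μ - 2 * (n : k)) ⊆ {ν | Module.End.HasEigenvalue H ν} := by
      rintro _ ⟨n, rfl⟩
      exact Module.End.hasEigenvalue_of_hasEigenvector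
        ⟨Module.End.mem_eigenspace_iff.2 (t.h_pow_f hH n), hne n⟩
    exact ((Module.End.finite_hasEigenvalue H).subset hsub).not_infinite (Set.infinite_range_of_injective hinj)
  obtain ⟨m, hm⟩ : ∃ m, Nat.find hex = m + 1 := by
    refine ⟨Nat.find hex - 1, ?_⟩
    have : Nat.find hex ≠ 0 := fun h0 => hw (by simpa [h0] using Nat.find_spec hex)
    omega
  have h1 : (F ^ (m + 1)) w = 0 := hm ▸ Nat.find_spec hex
  have h2 : (F ^ m) w ≠ 0 := Nat.find_min hex (by omega)
  have := t.e_pow_f hE hH m
  rw [h1, map_zero, eq_comm, smul_eq_zero, or_iff_left h2, mul_eq_zero, sub_eq_zero] at this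
  exact ⟨m, this.resolve_left (Nat.cast_add_one_ne_zero m), h1⟩

/-- the Casimir operator -/
def casimir (E H F : Module.End k V) : Module.End k V := H * H + (2 : k) • H + (4 : k) • (F * E)

theorem casimir_apply (v : V) : casimir E H F v = H (H v) + (2 : k) • H v + (4 : k) • F (E v) := rfl

theorem casimir_h (t : IsRep E H F) (v : V) : casimir E H F (H v) = H (casimir E H F v) := by
  simp only [casimir_apply, map_add, map_smul]
  have h2 : H (F (E v)) = F (E (H v)) := by
    rw [t.hf', t.he', map_add, map_smul]; module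
  rw [h2]

theorem casimir_e (t : IsRep E H F) (v : V) : casimir E H F (E v) = E (casimir E H F v) := by
  simp only [casimir_apply, t.he', map_add, map_smul, smul_add, smul_smul, t.ef']
  module

theorem casimir_f (t : IsRep E H F) (v : V) : casimir E H F (F v) = F (casimir E H F v) := by
  simp only [casimir_apply, t.hf', map_sub, map_add, map_smul, smul_add, smul_sub, smul_smul, t.ef']
  module

variable [FiniteDimensional k V] [IsAlgClosed k] [CharZero k]

theorem exists_primitive (t : IsRep E H F) {v : V} {μ : k} (hv : v ≠ 0) (hH : H v = μ • v) :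
    ∃ (j : ℕ) (w : V), w ≠ 0 ∧ E w = 0 ∧ H w = (μ + 2 * j) • w := by
  classical
  have hp : ∀ n : ℕ, H ((E ^ n) v) = (μ + 2 * n) • (E ^ n) v := by
    intro n
    induction n with
    | zero => simp [hH]
    | succ n ih =>
      rw [pow_succ', Module.End.mul_apply, t.he', ih, map_smul, ← add_smul]
      congr 1
      push_cast; ring
  have hex : ∃ n, (E ^ n) v = 0 := by
    by_contra! hne
    have hinj : Function.Injective (fun n : ℕ => μ + 2 * (n : k)) := fun a b hab =>
      Nat.cast_injective (mul_left_cancel₀ two_ne_zero (add_left_cancel hab))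
    have hsub : Set.range (fun n : ℕ => μ + 2 * (n : k)) ⊆ {ν | Module.End.HasEigenvalue H ν} := by
      rintro _ ⟨n, rfl⟩
      exact Module.End.hasEigenvalue_of_hasEigenvector ⟨Module.End.mem_eigenspace_iff.2 (hp n), hne n⟩
    exact ((Module.End.finite_hasEigenvalue H).subset hsub).not_infinite (Set.infinite_range_of_injective hinj)
  obtain ⟨m, hm⟩ : ∃ m, Nat.find hex = m + 1 := by
    refine ⟨Nat.find hex - 1, ?_⟩
    have : Nat.find hex ≠ 0 := fun h0 => hv (by simpa [h0] using Nat.find_spec hex)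
    omega
  refine ⟨m, (E ^ m) v, Nat.find_min hex (by omega), ?_, hp m⟩
  rw [← Module.End.mul_apply, ← pow_succ', ← hm]
  exact Nat.find_spec hex

/-- if the Casimir operator is nilpotent, the representation is trivial -/
theorem eq_zero_of_casimir_nilpotent (t : IsRep E H F) (hC : IsNilpotent (casimir E H F)) : E = 0 ∧ F = 0 := by
  have hev : ∀ (μ : k) (v : V), v ≠ 0 → H v = μ • v → ∃ j : ℕ, μ = -(2 * (j : k)) := by
    intro μ v hv hH
    obtain ⟨j, w, hw, hE, hHw⟩ := t.exists_primitive hv hH
    obtain ⟨m, hm, -⟩ := t.exists_nat hw hE hHw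
    refine ⟨j, ?_⟩
    have hCw : casimir E H F w = ((m : k) * (m + 2)) • w := by
      rw [casimir_apply, hE, map_zero, smul_zero, add_zero, hHw, map_smul, hHw, hm, smul_smul, smul_smul, ← add_smul]
      congr 1
      ring
    have hev : Module.End.HasEigenvalue (casimir E H F) ((m : k) * (m + 2)) :=
      Module.End.hasEigenvalue_of_hasEigenvector ⟨Module.End.mem_eigenspace_iff.2 hCw, hw⟩
    obtain ⟨N, hN⟩ := hC
    have hpow : ((casimir E H F) ^ N) w = ((m : k) * (m + 2)) ^ N • w :=
      Module.End.HasEigenvector.pow_apply ⟨Module.End.mem_eigenspace_iff.2 hCw, hw⟩ N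
    rw [hN, LinearMap.zero_apply, eq_comm, smul_eq_zero, or_iff_left hw] at hpow
    have h0 := eq_zero_of_pow_eq_zero hpow
    have hm2 : (m : k) + 2 ≠ 0 := by
      have : ((m + 2 : ℕ) : k) ≠ 0 := Nat.cast_ne_zero.2 (by omega)
      simpa using this
    rw [(mul_eq_zero.1 h0).resolve_right hm2] at hm
    exact eq_neg_of_add_eq_zero_left hm
  have hnil : IsNilpotent H := by
    suffices h0 : ∀ μ : k, Module.End.HasEigenvalue H μ → μ = 0 by
      have htop : H.maxGenEigenspace 0 = ⊤ := by
        refine eq_top_iff.2 ((Module.End.iSup_maxGenEigenspace_eq_top H).ge.trans (iSup_le fun μ => ?_))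
        by_cases hμ : H.maxGenEigenspace μ = ⊥
        · rw [hμ]; exact bot_le
        · have hu : H.HasUnifEigenvalue μ ⊤ := hμ
          rw [h0 μ (hu.lt zero_lt_one)]
      refine ⟨Module.finrank k V, LinearMap.ext fun v => ?_⟩
      have hv : v ∈ H.genEigenspace 0 (Module.finrank k V : ℕ∞) := by
        rw [← Module.End.maxGenEigenspace_eq_genEigenspace_finrank, htop]; trivial
      simpa [Module.End.mem_genEigenspace_nat] using hv
    intro μ hμ
    obtain ⟨v, hvm, hv⟩ := hμ.exists_hasEigenvector
    have hH := Module.End.mem_eigenspace_iff.1 hvm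
    obtain ⟨j, hj⟩ := hev μ v hv hH
    have hC' : IsNilpotent (casimir F (-H) E) := by
      have : casimir F (-H) E = casimir E H F := by
        refine LinearMap.ext fun v => ?_
        simp only [casimir_apply, LinearMap.neg_apply, map_neg, t.ef']
        module
      rwa [this]
    obtain ⟨i, w, hw, hF, hHw⟩ := t.symm.exists_primitive hv (show (-H) v = (-μ) • v by simp [hH])
    obtain ⟨m, hm, -⟩ := t.symm.exists_nat hw hF hHw
    have hCw : casimir F (-H) E w = ((m : k) * (m + 2)) • w := by
      rw [casimir_apply, hF, map_zero, smul_zero, add_zero, hHw, map_smul, hHw, hm, smul_smul, smul_smul, ← add_smul]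
      congr 1
      ring
    obtain ⟨N, hN⟩ := hC'
    have hpow : ((casimir F (-H) E) ^ N) w = ((m : k) * (m + 2)) ^ N • w :=
      Module.End.HasEigenvector.pow_apply ⟨Module.End.mem_eigenspace_iff.2 hCw, hw⟩ N
    rw [hN, LinearMap.zero_apply, eq_comm, smul_eq_zero, or_iff_left hw] at hpow
    have h0 := eq_zero_of_pow_eq_zero hpow
    have hm2 : (m : k) + 2 ≠ 0 := by
      have : ((m + 2 : ℕ) : k) ≠ 0 := Nat.cast_ne_zero.2 (by omega)
      simpa using this
    rw [(mul_eq_zero.1 h0).resolve_right hm2, hj, neg_neg, ← mul_add, mul_eq_zero,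
      or_iff_right two_ne_zero, ← Nat.cast_add, Nat.cast_eq_zero] at hm
    rw [hj, show j = 0 by omega]
    simp
  letI : LieRing (Module.End k V) := LieRing.ofAssociativeRing
  letI : LieAlgebra k (Module.End k V) := LieAlgebra.ofAssociativeAlgebra
  obtain ⟨N, hN⟩ := LieAlgebra.ad_nilpotent_of_nilpotent (R := k) hnil
  have key : ∀ (T : Module.End k V) (c : k), c ≠ 0 → H * T - T * H = c • T → T = 0 := by
    intro T c hc hT
    have hp : ∀ n : ℕ, ((LieAlgebra.ad k (Module.End k V) H) ^ n) T = c ^ n • T := by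
      intro n
      induction n with
      | zero => simp
      | succ n ih =>
        rw [pow_succ', Module.End.mul_apply, ih, map_smul, LieAlgebra.ad_apply, Ring.lie_def, hT, smul_smul,
          ← pow_succ]
    have := hp N
    rw [hN, LinearMap.zero_apply, eq_comm, smul_eq_zero] at this
    exact this.resolve_left (pow_ne_zero N hc)
  exact ⟨key E 2 two_ne_zero t.he, key F (-2) (neg_ne_zero.2 two_ne_zero) (by rw [t.hf, neg_smul])⟩

/-- an invariant vector in the image of the action is zero -/
theorem eq_zero_of_fixed (t : IsRep E H F) {v a b : V} (hvE : E v = 0) (hvH : H v = 0)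
    (hab : v = E a + F b) : v = 0 := by
  set C := casimir E H F
  have hCv : C v = 0 := by simp [C, casimir_apply, hvE, hvH]
  obtain ⟨N, hN⟩ : ∃ N, IsCompl (LinearMap.ker (C ^ (N + 1))) (LinearMap.range (C ^ (N + 1))) := by
    obtain ⟨N, hN⟩ := Filter.eventually_atTop.1 C.eventually_isCompl_ker_pow_range_pow
    exact ⟨N, hN _ (Nat.le_succ N)⟩
  set K := LinearMap.ker (C ^ (N + 1))
  set R := LinearMap.range (C ^ (N + 1))
  have hcomm : ∀ (T : Module.End k V), (∀ x, C (T x) = T (C x)) → ∀ x, (C ^ (N + 1)) (T x) = T ((C ^ (N + 1)) x) :=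
    fun T hT x => by
      induction (N + 1) with
      | zero => simp
      | succ n ih => rw [pow_succ', Module.End.mul_apply, Module.End.mul_apply, ih, hT]
  have hcE := hcomm E t.casimir_e
  have hcF := hcomm F t.casimir_f
  have hcH := hcomm H t.casimir_h
  have hKs : ∀ (T : Module.End k V), (∀ x, (C ^ (N + 1)) (T x) = T ((C ^ (N + 1)) x)) → ∀ x ∈ K, T x ∈ K :=
    fun T hT x hx => by rw [LinearMap.mem_ker] at hx ⊢; rw [hT, hx, map_zero]
  let E₀ := E.restrict (hKs E hcE)
  let F₀ := F.restrict (hKs F hcF)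
  let H₀ := H.restrict (hKs H hcH)
  have t₀ : IsRep E₀ H₀ F₀ :=
    ⟨LinearMap.ext fun x => Subtype.ext (LinearMap.congr_fun t.he x.1),
      LinearMap.ext fun x => Subtype.ext (LinearMap.congr_fun t.hf x.1),
      LinearMap.ext fun x => Subtype.ext (LinearMap.congr_fun t.ef x.1)⟩
  have hC0 : ∀ x : K, ((casimir E₀ H₀ F₀) x).1 = C x.1 := fun x => rfl
  have hnil : IsNilpotent (casimir E₀ H₀ F₀) := by
    refine ⟨N + 1, LinearMap.ext fun x => Subtype.ext ?_⟩
    have : ∀ n : ℕ, (((casimir E₀ H₀ F₀) ^ n) x).1 = (C ^ n) x.1 := by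
      intro n
      induction n with
      | zero => rfl
      | succ n ih => rw [pow_succ', pow_succ', Module.End.mul_apply, Module.End.mul_apply, hC0, ih]
    rw [this]
    exact LinearMap.mem_ker.1 x.2
  obtain ⟨hE0, hF0⟩ := t₀.eq_zero_of_casimir_nilpotent hnil
  obtain ⟨a₀, ha₀, a₁, ⟨a₂, rfl⟩, rfl⟩ := Submodule.mem_sup.1 (hN.sup_eq_top ▸ Submodule.mem_top : a ∈ K ⊔ R)
  obtain ⟨b₀, hb₀, b₁, ⟨b₂, rfl⟩, rfl⟩ := Submodule.mem_sup.1 (hN.sup_eq_top ▸ Submodule.mem_top : b ∈ K ⊔ R)
  have h1 : E a₀ = 0 := congrArg Subtype.val (LinearMap.congr_fun hE0 ⟨a₀, ha₀⟩)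
  have h2 : F b₀ = 0 := congrArg Subtype.val (LinearMap.congr_fun hF0 ⟨b₀, hb₀⟩)
  have hvR : v ∈ R := by
    rw [hab, map_add, map_add, h1, h2, zero_add, zero_add, ← hcE, ← hcF, ← map_add]
    exact ⟨_, rfl⟩
  have hvK : v ∈ K := by
    rw [LinearMap.mem_ker, pow_succ, Module.End.mul_apply, hCv, map_zero]
  exact Submodule.disjoint_def.1 hN.disjoint v hvK hvR

/-- every vector is an invariant plus an element of the image of the action -/
theorem exists_decomp (t : IsRep E H F) (v : V) :
    ∃ v₀ a b : V, E v₀ = 0 ∧ F v₀ = 0 ∧ v = v₀ + E a + F b := by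
  set I := LinearMap.ker E ⊓ LinearMap.ker F
  set R := LinearMap.range E ⊔ LinearMap.range F
  suffices h : I ⊔ R = ⊤ by
    obtain ⟨v₀, hv₀, r, hr, rfl⟩ := Submodule.mem_sup.1 (h ▸ Submodule.mem_top : v ∈ I ⊔ R)
    obtain ⟨_, ⟨a, rfl⟩, _, ⟨b, rfl⟩, rfl⟩ := Submodule.mem_sup.1 hr
    exact ⟨v₀, a, b, hv₀.1, hv₀.2, (_root_.add_assoc _ _ _).symm⟩
  rw [← Subspace.dualAnnihilator_inj, Submodule.dualAnnihilator_top, Submodule.dualAnnihilator_sup_eq,
    eq_bot_iff]
  rintro f ⟨hfI, hfR⟩
  have t' : IsRep (-E.dualMap) (-H.dualMap) (-F.dualMap) := by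
    refine ⟨?_, ?_, ?_⟩ <;> refine LinearMap.ext fun g => LinearMap.ext fun x => ?_
    · have := congrArg g (LinearMap.congr_fun t.he x)
      simp only [LinearMap.sub_apply, LinearMap.smul_apply, Module.End.mul_apply, map_sub, map_smul,
        LinearMap.neg_apply, LinearMap.dualMap_apply, map_neg, smul_eq_mul, LinearMap.coe_neg, Pi.neg_apply] at this ⊢
      linear_combination -this
    · have := congrArg g (LinearMap.congr_fun t.hf x)
      simp only [LinearMap.sub_apply, LinearMap.smul_apply, Module.End.mul_apply, map_sub, map_smul,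
        LinearMap.neg_apply, LinearMap.dualMap_apply, map_neg, smul_eq_mul, LinearMap.coe_neg, Pi.neg_apply] at this ⊢
      linear_combination -this
    · have := congrArg g (LinearMap.congr_fun t.ef x)
      simp only [LinearMap.sub_apply, Module.End.mul_apply, map_sub,
        LinearMap.neg_apply, LinearMap.dualMap_apply, map_neg, LinearMap.coe_neg, Pi.neg_apply] at this ⊢
      linear_combination -this
  have hE : E.dualMap f = 0 := LinearMap.ext fun x =>
    (Submodule.mem_dualAnnihilator f).1 hfR _ (Submodule.mem_sup_left ⟨x, rfl⟩)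
  have hF : F.dualMap f = 0 := LinearMap.ext fun x =>
    (Submodule.mem_dualAnnihilator f).1 hfR _ (Submodule.mem_sup_right ⟨x, rfl⟩)
  have hH : H.dualMap f = 0 := LinearMap.ext fun x => by
    have h1 : f (E (F x)) = 0 := LinearMap.congr_fun hE (F x)
    have h2 : f (F (E x)) = 0 := LinearMap.congr_fun hF (E x)
    change f (H x) = 0
    rw [← t.ef, LinearMap.sub_apply, map_sub, Module.End.mul_apply, Module.End.mul_apply, h1, h2, sub_zero]
  have hI : I.dualAnnihilator = LinearMap.range E.dualMap ⊔ LinearMap.range F.dualMap := by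
    rw [Subspace.dualAnnihilator_inf_eq, ← LinearMap.range_dualMap_eq_dualAnnihilator_ker,
      ← LinearMap.range_dualMap_eq_dualAnnihilator_ker]
  obtain ⟨_, ⟨a, rfl⟩, _, ⟨b, rfl⟩, hab⟩ := Submodule.mem_sup.1 (hI ▸ hfI)
  exact (Submodule.mem_bot k).2 (t'.eq_zero_of_fixed (v := f) (a := -a) (b := -b) (by simp [hE]) (by simp [hH])
    (by rw [← hab]; simp))

end IsRep

end Groth.Agent.Weitz
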