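import Groth.Agent.Weitz.Sl2Rep
import Mathlib.LinearAlgebra.Dimension.Constructions
import Mathlib.LinearAlgebra.FiniteDimensional.Lemmas

/-!
# Every nilpotent operator embeds in an `sl₂`-triple with diagonalisable middle term
-/

set_option autoImplicit false

universe u v

namespace Groth.Agent.Weitz

variable {k : Type u} [Field k]

section block

variable (m : ℕ)

/-- raising operator of a block -/
def bE : Module.End k (Fin (m + 1) → k) where
  toFun c i := if (i : ℕ) = 0 then 0 else c ⟨i - 1, by omega⟩
  map_add' c d := by ext i; simp only [Pi.add_apply]; split_ifs <;> simp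
  map_smul' r c := by ext i; simp only [Pi.smul_apply, RingHom.id_apply]; split_ifs <;> simp

/-- weight operator of a block -/
def bH : Module.End k (Fin (m + 1) → k) where
  toFun c i := (2 * (i : k) - m) * c i
  map_add' c d := by ext i; simp [mul_add]
  map_smul' r c := by ext i; simp [mul_left_comm]

/-- lowering operator of a block -/
def bF : Module.End k (Fin (m + 1) → k) where
  toFun c i := if h : (i : ℕ) < m then (((i : k) + 1) * ((m : k) - i)) * c ⟨i + 1, by omega⟩ else 0
  map_add' c d := by ext i; by_cases h : (i : ℕ) < m <;> simp [h, mul_add]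
  map_smul' r c := by ext i; by_cases h : (i : ℕ) < m <;> simp [h, mul_left_comm]

theorem isRep_block : IsRep (bE (k := k) m) (bH m) (bF m) := by
  refine ⟨?_, ?_, ?_⟩ <;>
    refine LinearMap.ext fun c => funext fun i => ?_ <;>
    simp only [LinearMap.sub_apply, LinearMap.neg_apply, LinearMap.smul_apply, Module.End.mul_apply, Pi.sub_apply,
      Pi.neg_apply, Pi.smul_apply, smul_eq_mul, bE, bH, bF, LinearMap.coe_mk, AddHom.coe_mk]
  · by_cases h : (i : ℕ) = 0
    · simp [h]
    · simp only [h, if_false]
      rw [Nat.cast_sub (by omega : 1 ≤ (i : ℕ))]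
      push_cast
      ring
  · by_cases h : (i : ℕ) < m
    · simp only [h, dite_true]
      push_cast
      ring
    · simp [h]
  · by_cases h0 : (i : ℕ) = 0
    · by_cases hm : (i : ℕ) < m
      · have hi : i = 0 := Fin.ext h0
        subst hi
        simp at hm
        simp [hm]
      · have : m = 0 := by omega
        subst this
        simp [h0]
    · have h1 : (i : ℕ) - 1 < m := by omega
      simp only [h0, if_false, h1, dite_true, Nat.succ_ne_zero, Nat.add_sub_cancel]
      rw [Nat.cast_sub (by omega : 1 ≤ (i : ℕ))]
      have e1 : (⟨(i : ℕ) - 1 + 1, by omega⟩ : Fin (m + 1)) = i := Fin.ext (by simp only; omega)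
      rw [e1]
      by_cases hm : (i : ℕ) < m
      · simp only [hm, dite_true]
        push_cast
        ring
      · have : (i : ℕ) = m := by omega
        simp only [hm, dite_false, this, lt_irrefl]
        push_cast
        ring

theorem bH_single (i : Fin (m + 1)) : bH (k := k) m (Pi.single i 1) = (2 * (i : k) - m) • Pi.single i 1 := by
  ext j
  by_cases h : j = i
  · subst h; simp [bH]
  · simp [bH, h]

end block

/-- a triple extending a nilpotent operator -/
theorem exists_triple : ∀ (d : ℕ) (V : Type v) [AddCommGroup V] [Module k V] [FiniteDimensional k V],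
    Module.finrank k V = d → ∀ N : Module.End k V, IsNilpotent N →
      ∃ H F : Module.End k V, IsRep N H F ∧ ⨆ μ, Module.End.eigenspace H μ = ⊤ := by
  intro d
  induction d using Nat.strong_induction_on with
  | _ d ih =>
    intro V _ _ _ hd N hN
    by_cases hV : Subsingleton V
    · refine ⟨0, 0, ⟨?_, ?_, ?_⟩, eq_top_iff.2 fun x _ => ?_⟩ <;>
        first
          | exact LinearMap.ext fun x => Subsingleton.elim _ _
          | (rw [Subsingleton.elim x 0]; exact Submodule.zero_mem _)
    rw [not_subsingleton_iff_nontrivial] at hV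
    classical
    obtain ⟨m, hm⟩ : ∃ m, Nat.find hN = m + 1 := by
      refine ⟨Nat.find hN - 1, ?_⟩
      have : Nat.find hN ≠ 0 := fun h0 => by
        have := Nat.find_spec hN
        rw [h0, pow_zero] at this
        exact one_ne_zero this
      omega
    have hm1 : N ^ (m + 1) = 0 := hm ▸ Nat.find_spec hN
    have hge : ∀ n, m + 1 ≤ n → N ^ n = 0 := fun n hn => pow_eq_zero_of_le hn hm1
    obtain ⟨v, hv⟩ : ∃ v, (N ^ m) v ≠ 0 := by
      by_contra! h
      exact Nat.find_min hN (show m < Nat.find hN by omega) (LinearMap.ext h)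
    obtain ⟨φ, hφ⟩ : ∃ φ : Module.Dual k V, φ ((N ^ m) v) ≠ 0 := by
      by_contra! h
      exact hv ((Module.forall_dual_apply_eq_zero_iff k _).1 h)
    let Ψ : V →ₗ[k] (Fin (m + 1) → k) := LinearMap.pi fun i => φ ∘ₗ (N ^ (m - (i : ℕ)))
    let σ : (Fin (m + 1) → k) →ₗ[k] V := ∑ i : Fin (m + 1), (LinearMap.proj i).smulRight ((N ^ (i : ℕ)) v)
    have hσ : ∀ c, σ c = ∑ i : Fin (m + 1), c i • (N ^ (i : ℕ)) v := fun c => by simp [σ]
    have hinj : Function.Injective (Ψ ∘ₗ σ) := by
      rw [injective_iff_map_eq_zero]
      intro c hc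
      suffices ∀ n, ∀ i : Fin (m + 1), (i : ℕ) = n → c i = 0 from funext fun i => this i i rfl
      intro n
      induction n using Nat.strong_induction_on with
      | _ n ihn =>
        intro i hi
        have h1 := congrFun hc i
        simp only [LinearMap.comp_apply, Ψ, LinearMap.pi_apply, hσ, map_sum, map_smul, Pi.zero_apply,
          smul_eq_mul] at h1
        rw [Finset.sum_eq_single i] at h1
        · rw [← Module.End.mul_apply, ← pow_add, Nat.sub_add_cancel (by omega : (i : ℕ) ≤ m), mul_eq_zero] at h1
          exact h1.resolve_right hφ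
        · intro j _ hji
          rcases lt_or_gt_of_ne (Fin.val_ne_of_ne hji) with hlt | hgt
          · rw [ihn j (hi ▸ hlt) j rfl, zero_mul]
          · rw [← Module.End.mul_apply, ← pow_add, hge _ (by omega), LinearMap.zero_apply, map_zero, mul_zero]
        · intro h; exact absurd (Finset.mem_univ i) h
    have hsurj : Function.Surjective (Ψ ∘ₗ σ) := LinearMap.injective_iff_surjective.1 hinj
    let U := LinearMap.ker Ψ
    let ev : ((Fin (m + 1) → k) × U) →ₗ[k] V := σ.coprod U.subtype
    have hev : Function.Bijective ev := by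
      refine ⟨(injective_iff_map_eq_zero _).2 fun x hx => ?_, fun w => ?_⟩
      · simp only [ev, LinearMap.coprod_apply, Submodule.subtype_apply] at hx
        have h0 : (Ψ ∘ₗ σ) x.1 = 0 := by
          rw [LinearMap.comp_apply, eq_neg_of_add_eq_zero_left hx, map_neg, LinearMap.mem_ker.1 x.2.2, neg_zero]
        have h1 : x.1 = 0 := (injective_iff_map_eq_zero _).1 hinj _ h0
        rw [h1, map_zero, zero_add] at hx
        exact Prod.ext h1 (Subtype.ext hx)
      · obtain ⟨c, hc⟩ := hsurj (Ψ w)
        refine ⟨(c, ⟨w - σ c, by simp only [U, LinearMap.mem_ker, map_sub]; rw [← hc]; exact sub_self _⟩), ?_⟩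
        simp [ev]
    let e : ((Fin (m + 1) → k) × U) ≃ₗ[k] V := LinearEquiv.ofBijective ev hev
    have hU : ∀ u ∈ U, N u ∈ U := by
      intro u hu
      rw [LinearMap.mem_ker] at hu ⊢
      funext i
      simp only [Ψ, LinearMap.pi_apply, LinearMap.comp_apply, Pi.zero_apply, ← Module.End.mul_apply, ← pow_succ]
      by_cases h0 : (i : ℕ) = 0
      · rw [h0, Nat.sub_zero, hm1]; simp
      · have := congrFun hu ⟨(i : ℕ) - 1, by omega⟩
        simp only [Ψ, LinearMap.pi_apply, LinearMap.comp_apply, Pi.zero_apply] at this
        rw [show m - (i : ℕ) + 1 = m - ((i : ℕ) - 1) by omega]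
        exact this
    let N₁ : Module.End k U := N.restrict hU
    have hN₁ : IsNilpotent N₁ := Module.End.isNilpotent.restrict hU hN
    have hlt : Module.finrank k U < d := by
      have h := e.finrank_eq
      rw [Module.finrank_prod, Module.finrank_fin_fun] at h
      omega
    obtain ⟨H₁, F₁, t₁, heig⟩ := ih _ hlt U rfl N₁ hN₁
    have hNe : ∀ x, N (e x) = e (bE m x.1, N₁ x.2) := by
      intro x
      simp only [e, LinearEquiv.ofBijective_apply, ev, LinearMap.coprod_apply, map_add]
      congr 1
      rw [hσ, hσ, map_sum, Fin.sum_univ_castSucc, Fin.sum_univ_succ (n := m)]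
      simp only [map_smul, ← Module.End.mul_apply, ← pow_succ', Fin.val_last, hm1, LinearMap.zero_apply, smul_zero,
        add_zero]
      simp only [bE, LinearMap.coe_mk, AddHom.coe_mk, Fin.val_zero, if_true, zero_smul, zero_add]
      refine Finset.sum_congr rfl fun j _ => ?_
      simp
      rfl
    refine ⟨e.conj ((bH m).prodMap H₁), e.conj ((bF m).prodMap F₁), ?_, ?_⟩
    · have hN' : N = e.conj ((bE m).prodMap N₁) := LinearMap.ext fun x => by
        obtain ⟨y, rfl⟩ := e.surjective x
        rw [hNe, LinearEquiv.conj_apply_apply, e.symm_apply_apply]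
        rfl
      have tb := isRep_block (k := k) m
      refine ⟨?_, ?_, ?_⟩ <;> (try rw [hN']) <;> refine LinearMap.ext fun x => ?_ <;>
        obtain ⟨y, rfl⟩ := e.surjective x <;>
        simp only [LinearMap.sub_apply, LinearMap.neg_apply, LinearMap.smul_apply, Module.End.mul_apply,
          LinearEquiv.conj_apply_apply, e.symm_apply_apply, LinearMap.prodMap_apply, ← map_smul, ← map_sub,
          ← map_neg] <;>
        refine congrArg e (Prod.ext ?_ ?_)
      · exact LinearMap.congr_fun tb.he y.1
      · exact LinearMap.congr_fun t₁.he y.2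
      · exact LinearMap.congr_fun tb.hf y.1
      · exact LinearMap.congr_fun t₁.hf y.2
      · exact LinearMap.congr_fun tb.ef y.1
      · exact LinearMap.congr_fun t₁.ef y.2
    · rw [eq_top_iff]
      intro x hx
      clear hx
      obtain ⟨⟨c, w⟩, rfl⟩ := e.surjective x
      have h : ∀ z : (Fin (m + 1) → k) × U, ∀ μ : k, ((bH m).prodMap H₁) z = μ • z →
          e z ∈ ⨆ μ, Module.End.eigenspace (e.conj ((bH m).prodMap H₁)) μ := by
        intro z μ hz
        refine Submodule.mem_iSup_of_mem μ (Module.End.mem_eigenspace_iff.2 ?_)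
        rw [LinearEquiv.conj_apply_apply, e.symm_apply_apply, hz, map_smul]
      have hcw : (c, w) = ((c, (0 : U)) : (Fin (m + 1) → k) × U) + (0, w) := by simp
      rw [hcw, map_add]
      refine add_mem ?_ ?_
      · rw [pi_eq_sum_univ c]
        have : ((∑ i, c i • fun j => if i = j then (1 : k) else 0), (0 : U)) =
            ∑ i, c i • ((fun j => if i = j then (1 : k) else 0), (0 : U)) := by
          refine Prod.ext ?_ ?_ <;> simp [Prod.fst_sum, Prod.snd_sum]
        rw [this, map_sum]
        refine Submodule.sum_mem _ fun i _ => ?_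
        rw [map_smul]
        refine Submodule.smul_mem _ _ (h _ (2 * (i : k) - m) ?_)
        refine Prod.ext ?_ ?_
        · funext j
          by_cases hij : i = j <;> simp [bH, hij]
        · simp
      · clear hcw
        have hw : w ∈ ⨆ μ, Module.End.eigenspace H₁ μ := heig ▸ Submodule.mem_top
        induction hw using Submodule.iSup_induction' with
        | mem μ w hw => exact h _ μ (Prod.ext (by simp) (by simp [Module.End.mem_eigenspace_iff.1 hw]))
        | zero => rw [show ((0 : Fin (m + 1) → k), (0 : U)) = 0 from rfl, map_zero]; exact zero_mem _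
        | add w w' _ _ ha hb =>
          rw [show ((0 : Fin (m + 1) → k), w + w') = ((0 : Fin (m + 1) → k), w) + (0, w') by simp, map_add]
          exact add_mem ha hb

end Groth.Agent.Weitz
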